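import Cfsg.Agent.Lib.SpRU.Fin
import Cfsg.Agent.H9.SpD
import Cfsg.Agent.H9.SpC

/-!
# Calculus in the Siegel parabolic of `Sp₂ₙ(K)`
-/

set_option autoImplicit false
set_option linter.unusedSimpArgs false

namespace Cfsg.Agent.SpRU

open Matrix Cfsg Cfsg.Agent.H9.SpA Cfsg.Agent.H9.SpB Cfsg.Agent.H9.SpD
  Cfsg.Agent.Lib.Helper5.Symp

variable {m : ℕ} {K : Type*} [Field K]

local notation "Sp" => SpG m K
local notation "Mm" => Matrix (Fin m) (Fin m) K

theorem isSymm_congr (A S : Mm) (hS : S.IsSymm) : (A * S * Aᵀ).IsSymm := by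
  unfold Matrix.IsSymm
  rw [transpose_mul, transpose_mul, transpose_transpose, hS.eq, Matrix.mul_assoc]

/-- conjugation of a Siegel element by an element of the Siegel parabolic -/
theorem conj_sie_of_gC {k : Sp} (hC : gC k = 0) (S : Mm) (hS : S.IsSymm) :
    k * sie S hS * k⁻¹ = sie (gA k * S * (gA k)ᵀ) (isSymm_congr _ S hS) := by
  rw [mul_inv_eq_iff_eq_mul]
  apply ext_blocks
  · rw [gA_mul, gA_mul, gA_sie, gC_sie, gA_sie, gB_sie, hC, Matrix.mul_one, Matrix.mul_zero,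
      Matrix.mul_zero, add_zero, add_zero, Matrix.one_mul]
  · rw [gB_mul, gB_mul, gB_sie, gD_sie, gA_sie, gB_sie, Matrix.mul_one, Matrix.one_mul,
      Matrix.mul_assoc (gA k * S), ← Matrix.transpose_transpose (gD k), ← transpose_mul,
      gD_mul_gA_of_gC hC, transpose_one, Matrix.mul_one, add_comm]
  · rw [gC_mul, gC_mul, gC_sie, gD_sie, gC_sie, hC, Matrix.mul_zero, Matrix.zero_mul,
      Matrix.zero_mul, add_zero, Matrix.one_mul, add_zero]
  · rw [gD_mul, gD_mul, gC_sie, gD_sie, gD_sie, hC, Matrix.zero_mul, Matrix.zero_mul, zero_add,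
      zero_add, Matrix.mul_one, Matrix.one_mul]

theorem InS.conjP {H : Subgroup Sp} {k : Sp} (hk : k ∈ H) (hC : gC k = 0) {S : Mm}
    (h : InS H S) : InS H (gA k * S * (gA k)ᵀ) := by
  obtain ⟨hS, h1⟩ := h
  refine ⟨isSymm_congr _ S hS, ?_⟩
  rw [← conj_sie_of_gC hC S hS]
  exact H.mul_mem (H.mul_mem hk h1) (H.inv_mem hk)

theorem isSymm_smul_vecMulVec (c : K) (a : Fin m → K) : (c • vecMulVec a a).IsSymm := by
  unfold Matrix.IsSymm
  rw [transpose_smul, transpose_vecMulVec]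

/-- a transvection with centre in `E` is a Siegel element -/
theorem sympT_vl (a : Fin m → K) (c : K) :
    sympT m (vl a) c = sie (c • vecMulVec a a) (isSymm_smul_vecMulVec c a) := by
  apply Subtype.ext
  change sympTransvection m (vl a) c = fromBlocks 1 (c • vecMulVec a a) 0 1
  unfold sympTransvection
  have h1 : J (Fin m) K *ᵥ vl a = vr a := by
    ext (i | i)
    · simp [J, vl, vr, fromBlocks_mulVec]
    · simp [J, vl, vr, fromBlocks_mulVec]
  rw [h1]
  ext (i | i) (j | j) <;>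
    simp [vl, vr, vecMulVec_apply, Matrix.one_apply, fromBlocks]

/-- membership of all transvections with centre in `E` -/
theorem sympT_vl_mem {H : Subgroup Sp}
    (h : ∀ (a : Fin m → K) (c : K), InS H (c • vecMulVec a a)) (a : Fin m → K) (c : K) :
    sympT m (vl a) c ∈ H := by
  rw [sympT_vl]
  obtain ⟨_, h1⟩ := h a c
  exact h1

/-- blocks of a Siegel element conjugated by an opposite Siegel element -/
theorem gA_sieN_conj (T S : Mm) (hT : T.IsSymm) (hS : S.IsSymm) :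
    gA (sieN T hT * sie S hS * (sieN T hT)⁻¹) = 1 - S * T := by
  rw [Cfsg.Agent.H9.SpC.sieN_inv]
  simp only [gA_mul, gB_mul, gC_mul, gD_mul, gA_sie, gB_sie, gC_sie, gD_sie, gA_sieN, gB_sieN,
    gC_sieN, gD_sieN, Matrix.mul_one, Matrix.one_mul, Matrix.mul_zero, Matrix.zero_mul, add_zero,
    zero_add, Matrix.mul_neg]
  rw [sub_eq_add_neg]

theorem gC_sieN_conj (T S : Mm) (hT : T.IsSymm) (hS : S.IsSymm) :
    gC (sieN T hT * sie S hS * (sieN T hT)⁻¹) = -(T * S * T) := by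
  rw [Cfsg.Agent.H9.SpC.sieN_inv]
  simp only [gA_mul, gB_mul, gC_mul, gD_mul, gA_sie, gB_sie, gC_sie, gD_sie, gA_sieN, gB_sieN,
    gC_sieN, gD_sieN, Matrix.mul_one, Matrix.one_mul, Matrix.mul_zero, Matrix.zero_mul, add_zero,
    zero_add, Matrix.mul_neg]
  rw [Matrix.add_mul, Matrix.one_mul]
  abel

theorem gA_sieN_conj' (T S : Mm) (hT : T.IsSymm) (hS : S.IsSymm) :
    gA ((sieN T hT)⁻¹ * sie S hS * sieN T hT) = 1 + S * T := by
  rw [Cfsg.Agent.H9.SpC.sieN_inv]
  simp only [gA_mul, gB_mul, gC_mul, gD_mul, gA_sie, gB_sie, gC_sie, gD_sie, gA_sieN, gB_sieN,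
    gC_sieN, gD_sieN, Matrix.mul_one, Matrix.one_mul, Matrix.mul_zero, Matrix.zero_mul, add_zero,
    zero_add]

theorem gC_sieN_conj' (T S : Mm) (hT : T.IsSymm) (hS : S.IsSymm) :
    gC ((sieN T hT)⁻¹ * sie S hS * sieN T hT) = -(T * S * T) := by
  rw [Cfsg.Agent.H9.SpC.sieN_inv]
  simp only [gA_mul, gB_mul, gC_mul, gD_mul, gA_sie, gB_sie, gC_sie, gD_sie, gA_sieN, gB_sieN,
    gC_sieN, gD_sieN, Matrix.mul_one, Matrix.one_mul, Matrix.mul_zero, Matrix.zero_mul, add_zero,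
    zero_add]
  rw [Matrix.add_mul, Matrix.one_mul, Matrix.neg_mul, Matrix.neg_mul]
  abel

/-- a Siegel element commutes with an opposite one when the products vanish -/
theorem sieN_comm_sie (T S : Mm) (hT : T.IsSymm) (hS : S.IsSymm) (h1 : T * S = 0)
    (h2 : S * T = 0) : sieN T hT * sie S hS = sie S hS * sieN T hT := by
  apply ext_blocks <;>
  simp only [gA_mul, gB_mul, gC_mul, gD_mul, gA_sie, gB_sie, gC_sie, gD_sie, gA_sieN, gB_sieN,
    gC_sieN, gD_sieN, Matrix.mul_one, Matrix.one_mul, Matrix.mul_zero, Matrix.zero_mul, add_zero,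
    zero_add, h1, h2]

end Cfsg.Agent.SpRU
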