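import Cfsg.Agent.Lib.SpRU.PCalc
import Cfsg.Agent.H9.SpF

/-!
# `Sp₄(F)`: explicit elements
-/

set_option autoImplicit false
set_option linter.unusedSimpArgs false

namespace Cfsg.Agent.SpRU.Sp4

open Matrix Cfsg Cfsg.Agent.H9.SpA Cfsg.Agent.H9.SpB Cfsg.Agent.H9.SpD Cfsg.Agent.SpRU

variable {F : Type*} [Field F]

local notation "SP" => SpG 2 F
local notation "M2" => Matrix (Fin 2) (Fin 2) F

def R0 : M2 := !![1, 0; 0, 0]
def R1 : M2 := !![0, 0; 0, 1]
def P01 : M2 := !![0, 1; 1, 0]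
def Jx (x : F) : M2 := !![1, x; 0, 1]
def Lc (c : F) : M2 := !![1, 0; c, 1]
def Dg (a b : F) : M2 := !![a, 0; 0, b]

omit [Field F] in
theorem isSymm_two {a b c : F} : (!![a, b; b, c] : M2).IsSymm := by
  unfold Matrix.IsSymm
  ext i j
  fin_cases i <;> fin_cases j <;> rfl

theorem R0_symm : (R0 : M2).IsSymm := isSymm_two
theorem R1_symm : (R1 : M2).IsSymm := isSymm_two
theorem P01_symm : (P01 : M2).IsSymm := isSymm_two

theorem Jx_mul (x y : F) : Jx x * Jx y = Jx (x + y) := by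
  unfold Jx
  rw [Matrix.mul_fin_two]
  ext i j
  fin_cases i <;> fin_cases j <;> simp [add_comm]

theorem Jx_zero : Jx (0 : F) = 1 := by
  unfold Jx
  rw [Matrix.one_fin_two]

theorem Jx_inv (x : F) : Jx x * Jx (-x) = 1 := by
  rw [Jx_mul, add_neg_cancel, Jx_zero]

theorem Lc_inv (c : F) : Lc c * Lc (-c) = 1 := by
  unfold Lc
  rw [Matrix.mul_fin_two, Matrix.one_fin_two]
  ext i j
  fin_cases i <;> fin_cases j <;> simp

theorem Dg_inv {a b : F} (ha : a ≠ 0) (hb : b ≠ 0) : Dg a b * Dg a⁻¹ b⁻¹ = 1 := by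
  unfold Dg
  rw [Matrix.mul_fin_two, Matrix.one_fin_two]
  ext i j
  fin_cases i <;> fin_cases j <;> simp [ha, hb]

/-- the regular unipotent element -/
def uE : SP := sie R1 R1_symm * lev (Jx 1) (Jx (-1)) (Jx_inv 1)

/-- the opposite element -/
def VE (c t : F) : SP := lev (Lc c) (Lc (-c)) (Lc_inv c) * sieN (t • R1) (R1_symm.smul t)

/-- the conjugating element -/
def hE (a b : F) (ha : a ≠ 0) (hb : b ≠ 0) : SP :=
  lev (Dg a b) (Dg a⁻¹ b⁻¹) (Dg_inv ha hb) * SymplecticGroup.symJ (Fin 2) F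

/-- the third conjugator -/
def gE (l : F) : SP := sie ((l ^ 2) • R1) (R1_symm.smul _) * lev (Jx l) (Jx (-l)) (Jx_inv l)

theorem symJ_val : (SymplecticGroup.symJ (Fin 2) F).1 = fromBlocks 0 (-1) 1 0 := rfl

theorem gA_symJ : gA (SymplecticGroup.symJ (Fin 2) F) = 0 := (blocks_of_val symJ_val).1
theorem gB_symJ : gB (SymplecticGroup.symJ (Fin 2) F) = -1 := (blocks_of_val symJ_val).2.1
theorem gC_symJ : gC (SymplecticGroup.symJ (Fin 2) F) = 1 := (blocks_of_val symJ_val).2.2.1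
theorem gD_symJ : gD (SymplecticGroup.symJ (Fin 2) F) = 0 := (blocks_of_val symJ_val).2.2.2

/-- `V = h u⁻¹ h⁻¹` -/
theorem hE_conj (a b : F) (ha : a ≠ 0) (hb : b ≠ 0) :
    hE a b ha hb * (uE : SP)⁻¹ = VE (b / a) (b ^ 2)⁻¹ * hE a b ha hb := by
  unfold hE uE VE
  apply ext_blocks
  all_goals
    simp only [gA_mul, gB_mul, gC_mul, gD_mul, gA_inv, gB_inv, gC_inv, gD_inv, gA_sie, gB_sie,
      gC_sie, gD_sie, gA_sieN, gB_sieN, gC_sieN, gD_sieN, gA_lev, gB_lev, gC_lev, gD_lev, gA_symJ,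
      gB_symJ, gC_symJ, gD_symJ, Matrix.mul_one, Matrix.one_mul, Matrix.mul_zero, Matrix.zero_mul,
      add_zero, zero_add, transpose_zero, neg_zero]
  all_goals
    ext i j
    fin_cases i <;> fin_cases j <;>
      simp [Dg, Jx, Lc, R1, Matrix.mul_apply, Fin.sum_univ_two, Matrix.transpose_apply,
        Matrix.neg_apply, Matrix.smul_apply, -Matrix.cons_mul] <;> field_simp

/-- the seed obtained from the third conjugate -/
theorem gE_comm (l : F) :
    gE l * (uE : SP) = sie ((l - l ^ 2) • P01) (P01_symm.smul _) * uE * gE l := by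
  unfold gE uE
  apply ext_blocks
  all_goals
    simp only [gA_mul, gB_mul, gC_mul, gD_mul, gA_inv, gB_inv, gC_inv, gD_inv, gA_sie, gB_sie,
      gC_sie, gD_sie, gA_sieN, gB_sieN, gC_sieN, gD_sieN, gA_lev, gB_lev, gC_lev, gD_lev,
      Matrix.mul_one, Matrix.one_mul, Matrix.mul_zero, Matrix.zero_mul,
      add_zero, zero_add, transpose_zero, neg_zero]
  all_goals
    ext i j
    fin_cases i <;> fin_cases j <;>
      simp [Jx, R1, P01, Matrix.mul_apply, Fin.sum_univ_two, Matrix.transpose_apply,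
        Matrix.neg_apply, Matrix.smul_apply, Matrix.add_apply, -Matrix.cons_mul] <;> ring

theorem seed_eq (l : F) :
    gE l * (uE : SP) * (gE l)⁻¹ * uE⁻¹ = sie ((l - l ^ 2) • P01) (P01_symm.smul _) := by
  rw [gE_comm]
  group

/-- in characteristic two the square of `u` is a Siegel element -/
theorem uE_sq [CharP F 2] : (uE : SP) * uE = sie (R0 + P01) (R0_symm.add P01_symm) := by
  have h2 : (2 : F) = 0 := CharTwo.two_eq_zero
  have h11 : (1 : F) + 1 = 0 := by rw [one_add_one_eq_two]; exact h2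
  have hm1 : (-1 : F) = 1 := by rw [neg_eq_iff_add_eq_zero]; exact h11
  unfold uE
  apply ext_blocks
  all_goals
    simp only [gA_mul, gB_mul, gC_mul, gD_mul, gA_inv, gB_inv, gC_inv, gD_inv, gA_sie, gB_sie,
      gC_sie, gD_sie, gA_sieN, gB_sieN, gC_sieN, gD_sieN, gA_lev, gB_lev, gC_lev, gD_lev,
      Matrix.mul_one, Matrix.one_mul, Matrix.mul_zero, Matrix.zero_mul,
      add_zero, zero_add, transpose_zero, neg_zero]
  all_goals
    ext i j
    fin_cases i <;> fin_cases j <;>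
      simp [Jx, R0, R1, P01, Matrix.mul_apply, Fin.sum_univ_two, Matrix.transpose_apply,
        Matrix.neg_apply, Matrix.smul_apply, Matrix.add_apply, Matrix.one_apply, hm1, h11,
        -Matrix.cons_mul]

section char2

variable [CharP F 2]

theorem neg_one_eq : (-1 : F) = 1 := by
  rw [neg_eq_iff_add_eq_zero, one_add_one_eq_two]
  exact CharTwo.two_eq_zero

/-- first parabolic element obtained from the seed -/
def k1 (c t s : F) : SP := (VE c t)⁻¹ * sie (s • P01) (P01_symm.smul _) * VE c t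

theorem gC_k1 (c t s : F) : gC (k1 c t s : SP) = 0 := by
  unfold k1 VE
  simp only [gA_mul, gB_mul, gC_mul, gD_mul, gA_inv, gB_inv, gC_inv, gD_inv, gA_sie, gB_sie,
    gC_sie, gD_sie, gA_sieN, gB_sieN, gC_sieN, gD_sieN, gA_lev, gB_lev, gC_lev, gD_lev,
    Matrix.mul_one, Matrix.one_mul, Matrix.mul_zero, Matrix.zero_mul,
    add_zero, zero_add, transpose_zero, neg_zero]
  ext i j
  fin_cases i <;> fin_cases j <;>
    simp [Lc, R1, P01, Matrix.mul_apply, Fin.sum_univ_two, Matrix.transpose_apply,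
      Matrix.neg_apply, Matrix.smul_apply, Matrix.add_apply, Matrix.one_apply,
      -Matrix.cons_mul]
  linear_combination (t * t * s * c) * (CharTwo.two_eq_zero : (2 : F) = 0)

theorem gA_k1 (c t s : F) : gA (k1 c t s : SP) = Jx (s * t) := by
  unfold k1 VE
  simp only [gA_mul, gB_mul, gC_mul, gD_mul, gA_inv, gB_inv, gC_inv, gD_inv, gA_sie, gB_sie,
    gC_sie, gD_sie, gA_sieN, gB_sieN, gC_sieN, gD_sieN, gA_lev, gB_lev, gC_lev, gD_lev,
    Matrix.mul_one, Matrix.one_mul, Matrix.mul_zero, Matrix.zero_mul,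
    add_zero, zero_add, transpose_zero, neg_zero]
  ext i j
  fin_cases i <;> fin_cases j <;>
    simp [Lc, R1, P01, Jx, Matrix.mul_apply, Fin.sum_univ_two, Matrix.transpose_apply,
      Matrix.neg_apply, Matrix.smul_apply, Matrix.add_apply, Matrix.one_apply,
      -Matrix.cons_mul]
  linear_combination (-(s * c * t)) * (CharTwo.two_eq_zero : (2 : F) = 0)

/-- second parabolic element, obtained from `u²` -/
def k2 (c t : F) : SP := VE c t * sie (R0 + P01) (R0_symm.add P01_symm) * (VE c t)⁻¹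

/-- its Levi part -/
def Am (c t : F) : M2 := !![1 + t * c, t; t * c ^ 2, 1 + t * c]

theorem gC_k2 (c t : F) : gC (k2 c t : SP) = 0 := by
  unfold k2 VE
  simp only [gA_mul, gB_mul, gC_mul, gD_mul, gA_inv, gB_inv, gC_inv, gD_inv, gA_sie, gB_sie,
    gC_sie, gD_sie, gA_sieN, gB_sieN, gC_sieN, gD_sieN, gA_lev, gB_lev, gC_lev, gD_lev,
    Matrix.mul_one, Matrix.one_mul, Matrix.mul_zero, Matrix.zero_mul,
    add_zero, zero_add, transpose_zero, neg_zero]
  ext i j
  fin_cases i <;> fin_cases j <;>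
    simp [Lc, R0, R1, P01, Matrix.mul_apply, Fin.sum_univ_two, Matrix.transpose_apply,
      Matrix.neg_apply, Matrix.smul_apply, Matrix.add_apply, Matrix.one_apply,
      -Matrix.cons_mul]
  ring

theorem gA_k2 (c t : F) : gA (k2 c t : SP) = Am c t := by
  unfold k2 VE
  simp only [gA_mul, gB_mul, gC_mul, gD_mul, gA_inv, gB_inv, gC_inv, gD_inv, gA_sie, gB_sie,
    gC_sie, gD_sie, gA_sieN, gB_sieN, gC_sieN, gD_sieN, gA_lev, gB_lev, gC_lev, gD_lev,
    Matrix.mul_one, Matrix.one_mul, Matrix.mul_zero, Matrix.zero_mul,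
    add_zero, zero_add, transpose_zero, neg_zero]
  ext i j
  fin_cases i <;> fin_cases j <;>
    simp [Lc, R0, R1, P01, Am, Matrix.mul_apply, Fin.sum_univ_two, Matrix.transpose_apply,
      Matrix.neg_apply, Matrix.smul_apply, Matrix.add_apply, Matrix.one_apply,
      -Matrix.cons_mul]
  · linear_combination (-t) * (CharTwo.two_eq_zero : (2 : F) = 0)
  · ring
  · linear_combination (-(c * t)) * (CharTwo.two_eq_zero : (2 : F) = 0)

end char2

/-- first stage of the `SL₂` word -/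
theorem word_stage1 (p m r μ : F) (h2 : (2 : F) = 0) (hdet : p * p + m * r = 1) :
    (!![p, m; r, p] : Matrix (Fin 2) (Fin 2) F) * !![1, μ; 0, 1] * !![p, m; r, p]
      = !![1 + p * μ * r, p * p * μ; r * r * μ, 1 + r * μ * p] := by
  rw [Matrix.mul_fin_two, Matrix.mul_fin_two]
  ext i j
  fin_cases i <;> fin_cases j <;> simp
  · linear_combination hdet
  · linear_combination (p * m) * h2
  · linear_combination (r * p) * h2
  · linear_combination hdet

/-- second stage -/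
theorem word_stage2 (p m r μ : F) (h2 : (2 : F) = 0) (hdet : p * p + m * r = 1)
    (hμ : μ * r * r = 1) :
    (!![1 + p * μ * r, p * p * μ; r * r * μ, 1 + r * μ * p] : Matrix (Fin 2) (Fin 2) F)
      * !![1, 1; 0, 1] * !![p, m; r, p]
      = !![r, p + m + μ * p + μ * p * p * r; 0, μ * r] := by
  rw [Matrix.mul_fin_two, Matrix.mul_fin_two]
  ext i j
  fin_cases i <;> fin_cases j <;> simp
  · linear_combination p * hμ + (p + p * p * μ * r) * h2
  · linear_combination (μ * p) * hdet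
  · linear_combination r * hμ + (r * r * μ * p + r) * h2
  · linear_combination (μ * r) * hdet + p * hμ + p * h2

/-- the whole word is upper triangular -/
theorem word_eq (p m r μ : F) (h2 : (2 : F) = 0) (hdet : p * p + m * r = 1)
    (hμ : μ * r * r = 1) :
    (!![p, m; r, p] : Matrix (Fin 2) (Fin 2) F) * !![1, μ; 0, 1] * !![p, m; r, p]
      * !![1, 1; 0, 1] * !![p, m; r, p]
      = !![r, p + m + μ * p + μ * p * p * r; 0, μ * r] := by
  rw [word_stage1 p m r μ h2 hdet, word_stage2 p m r μ h2 hdet hμ]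

/-- its action on the symmetric matrices `x R₀ + P₀₁` -/
theorem word_act (r b μ x : F) (h2 : (2 : F) = 0) (hμ : μ * r * r = 1) :
    (!![r, b; 0, μ * r] : Matrix (Fin 2) (Fin 2) F) * !![x, 1; 1, 0] * (!![r, b; 0, μ * r])ᵀ
      = !![x * (r * r), 1; 1, 0] := by
  rw [Matrix.mul_fin_two]
  ext i j
  fin_cases i <;> fin_cases j <;> simp [Matrix.mul_apply, Fin.sum_univ_two]
  · linear_combination (r * b) * h2
  · linear_combination hμ
  · linear_combination hμ


section closure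

variable [CharP F 2] {H : Subgroup (SpG 2 F)} {c t s : F}

theorem gC_uE : gC (uE : SP) = 0 := by
  unfold uE
  simp only [gC_mul, gC_sie, gD_sie, gC_lev, gA_lev, Matrix.zero_mul, Matrix.mul_zero, add_zero]

theorem gA_uE : gA (uE : SP) = Jx 1 := by
  unfold uE
  simp only [gA_mul, gA_sie, gB_sie, gC_lev, gA_lev, Matrix.one_mul, Matrix.mul_zero, add_zero]

theorem ruleJ (hu : (uE : SP) ∈ H) {S : M2} (h : InS H S) : InS H (Jx 1 * S * (Jx 1)ᵀ) := by
  have := InS.conjP hu gC_uE h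
  rwa [gA_uE] at this

theorem k1_mem (hV : VE c t ∈ H) (hz : InS H (s • P01)) : k1 c t s ∈ H := by
  obtain ⟨_, hz'⟩ := hz
  unfold k1
  exact H.mul_mem (H.mul_mem (H.inv_mem hV) hz') hV

theorem ruleMu (hV : VE c t ∈ H) (hz : InS H (s • P01)) {S : M2} (h : InS H S) :
    InS H (Jx (s * t) * S * (Jx (s * t))ᵀ) := by
  have := InS.conjP (k1_mem hV hz) (gC_k1 c t s) h
  rwa [gA_k1] at this

theorem Zu_mem (hu : (uE : SP) ∈ H) : InS H (R0 + P01 : M2) :=
  ⟨R0_symm.add P01_symm, by rw [← uE_sq]; exact H.mul_mem hu hu⟩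

theorem k2_mem (hu : (uE : SP) ∈ H) (hV : VE c t ∈ H) : k2 c t ∈ H := by
  obtain ⟨_, hz'⟩ := Zu_mem hu
  unfold k2
  exact H.mul_mem (H.mul_mem hV hz') (H.inv_mem hV)

theorem ruleA (hu : (uE : SP) ∈ H) (hV : VE c t ∈ H) {S : M2} (h : InS H S) :
    InS H (Am c t * S * (Am c t)ᵀ) := by
  have := InS.conjP (k2_mem hu hV) (gC_k2 c t) h
  rwa [gA_k2] at this

omit [CharP F 2] in
theorem cong_cong (A B S : M2) : B * (A * S * Aᵀ) * Bᵀ = (B * A) * S * (B * A)ᵀ := by
  rw [transpose_mul]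
  simp only [Matrix.mul_assoc]

/-- the rule obtained from the upper triangular word -/
theorem ruleG (hu : (uE : SP) ∈ H) (hV : VE c t ∈ H) (hz : InS H (s • P01))
    (hμ : (s * t) * (t * c ^ 2) * (t * c ^ 2) = 1) {x : F}
    (h : InS H (!![x, 1; 1, 0] : M2)) :
    InS H (!![x * ((t * c ^ 2) * (t * c ^ 2)), 1; 1, 0] : M2) := by
  have h2 : (2 : F) = 0 := CharTwo.two_eq_zero
  have h1 := ruleA hu hV (ruleMu hV hz (ruleA hu hV (ruleJ hu (ruleA hu hV h))))
  rw [cong_cong, cong_cong, cong_cong, cong_cong] at h1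
  have hdet : (1 + t * c) * (1 + t * c) + t * (t * c ^ 2) = 1 := by
    linear_combination (t * c + t * t * c * c) * h2
  have hw := word_eq (1 + t * c) t (t * c ^ 2) (s * t) h2 hdet hμ
  have e : Am c t * Jx (s * t) * Am c t * Jx 1 * Am c t
      = !![t * c ^ 2, (1 + t * c) + t + (s * t) * (1 + t * c)
          + (s * t) * (1 + t * c) * (1 + t * c) * (t * c ^ 2); 0, (s * t) * (t * c ^ 2)] := hw
  rw [e, word_act _ _ _ _ h2 hμ] at h1
  exact h1

/-- the matrices `ζ^k R₀ + P₀₁` -/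
theorem step_pow (hu : (uE : SP) ∈ H) (hV : VE c t ∈ H) (hz : InS H (s • P01))
    (hμ : (s * t) * (t * c ^ 2) * (t * c ^ 2) = 1) (ζ : F)
    (hζ : (t * c ^ 2) * (t * c ^ 2) = ζ) (k : ℕ) : InS H (!![ζ ^ k, 1; 1, 0] : M2) := by
  induction k with
  | zero =>
    refine (Zu_mem hu).of_eq ?_
    ext i j
    fin_cases i <;> fin_cases j <;> simp [R0, P01]
  | succ k ih =>
    have := ruleG hu hV hz hμ ih
    rwa [hζ, ← pow_succ] at this

theorem step_R0 (hu : (uE : SP) ∈ H) (hV : VE c t ∈ H) (hz : InS H (s • P01))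
    (hμ : (s * t) * (t * c ^ 2) * (t * c ^ 2) = 1) (ζ : F)
    (hζ : (t * c ^ 2) * (t * c ^ 2) = ζ) (hgen : ∀ x : F, x ≠ 0 → ∃ k : ℕ, x = ζ ^ k)
    (hζ0 : ζ ≠ 0) (hζ1 : ζ ≠ 1) (y : F) : InS H (!![y, 0; 0, 0] : M2) := by
  have h2 : (2 : F) = 0 := CharTwo.two_eq_zero
  have hx : ∀ x : F, x ≠ 0 → InS H (!![x, 1; 1, 0] : M2) := by
    intro x hx
    obtain ⟨k, rfl⟩ := hgen x hx
    exact step_pow hu hV hz hμ ζ hζ k
  have hy : ∀ y : F, y + 1 ≠ 0 → InS H (!![y, 0; 0, 0] : M2) := by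
    intro y hy
    refine ((hx (y + 1) hy).sub (hx 1 one_ne_zero)).of_eq ?_
    ext i j
    fin_cases i <;> fin_cases j <;> simp
  by_cases h1 : y + 1 = 0
  · have ha : ζ + 1 ≠ 0 := by
      intro h
      apply hζ1
      linear_combination h - h2
    have hb : (1 + ζ) + 1 ≠ 0 := by
      intro h
      apply hζ0
      linear_combination h - h2
    refine ((hy ζ ha).add (hy (1 + ζ) hb)).of_eq ?_
    ext i j
    fin_cases i <;> fin_cases j <;> simp
    linear_combination (ζ + 1) * h2 - h1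
  · exact hy y h1

/-- everything: all of `Sym₂` -/
theorem step_all (hu : (uE : SP) ∈ H) (hV : VE c t ∈ H) (hz : InS H (s • P01))
    (hμ : (s * t) * (t * c ^ 2) * (t * c ^ 2) = 1) (ζ : F)
    (hζ : (t * c ^ 2) * (t * c ^ 2) = ζ) (hgen : ∀ x : F, x ≠ 0 → ∃ k : ℕ, x = ζ ^ k)
    (hζ0 : ζ ≠ 0) (hζ1 : ζ ≠ 1) (a b d : F) : InS H (!![a, b; b, d] : M2) := by
  have h2 : (2 : F) = 0 := CharTwo.two_eq_zero
  have hR0 := step_R0 hu hV hz hμ ζ hζ hgen hζ0 hζ1
  have hr0 : (t * c ^ 2) * (t * c ^ 2) ≠ 0 := by rw [hζ]; exact hζ0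
  -- rule A on `y R₀`
  have hA : ∀ y : F, InS H (!![0, y * ((1 + t * c) * (t * c ^ 2));
      y * ((1 + t * c) * (t * c ^ 2)), y * ((t * c ^ 2) * (t * c ^ 2))] : M2) := by
    intro y
    have h1 := ruleA hu hV (hR0 y) (c := c) (t := t)
    refine (h1.sub (hR0 (y * ((1 + t * c) * (1 + t * c))))).of_eq ?_
    ext i j
    fin_cases i <;> fin_cases j <;>
      simp [Am, Matrix.mul_apply, Fin.sum_univ_two, Matrix.transpose_apply, -Matrix.cons_mul] <;>
      ring
  -- rule J on this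
  have hP : ∀ y : F, InS H (!![0, y; y, 0] : M2) := by
    intro y
    have e : y / ((t * c ^ 2) * (t * c ^ 2)) * ((t * c ^ 2) * (t * c ^ 2)) = y :=
      div_mul_cancel₀ _ hr0
    have h1 := ruleJ hu (hA (y / ((t * c ^ 2) * (t * c ^ 2))))
    refine ((h1.sub (hA (y / ((t * c ^ 2) * (t * c ^ 2))))).sub
      (hR0 (y / ((t * c ^ 2) * (t * c ^ 2)) * ((t * c ^ 2) * (t * c ^ 2))))).of_eq ?_
    rw [e]
    ext i j
    fin_cases i <;> fin_cases j <;>
      simp [Jx, Matrix.mul_apply, Fin.sum_univ_two, Matrix.transpose_apply, -Matrix.cons_mul]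
    linear_combination (y / ((t * c ^ 2) * (t * c ^ 2)) * ((1 + t * c) * (t * c ^ 2))) * h2
  have hR1 : ∀ y : F, InS H (!![0, 0; 0, y] : M2) := by
    intro y
    have e : y / ((t * c ^ 2) * (t * c ^ 2)) * ((t * c ^ 2) * (t * c ^ 2)) = y :=
      div_mul_cancel₀ _ hr0
    refine ((hA (y / ((t * c ^ 2) * (t * c ^ 2)))).sub
      (hP (y / ((t * c ^ 2) * (t * c ^ 2)) * ((1 + t * c) * (t * c ^ 2))))).of_eq ?_
    rw [e]
    ext i j
    fin_cases i <;> fin_cases j <;> simp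
  refine (((hR0 a).add (hP b)).add (hR1 d)).of_eq ?_
  ext i j
  fin_cases i <;> fin_cases j <;> simp

/-- all Siegel transvections -/
theorem step_rank_one (hu : (uE : SP) ∈ H) (hV : VE c t ∈ H) (hz : InS H (s • P01))
    (hμ : (s * t) * (t * c ^ 2) * (t * c ^ 2) = 1) (ζ : F)
    (hζ : (t * c ^ 2) * (t * c ^ 2) = ζ) (hgen : ∀ x : F, x ≠ 0 → ∃ k : ℕ, x = ζ ^ k)
    (hζ0 : ζ ≠ 0) (hζ1 : ζ ≠ 1) (a : Fin 2 → F) (x : F) : InS H (x • vecMulVec a a) := by
  refine (step_all hu hV hz hμ ζ hζ hgen hζ0 hζ1 (x * (a 0 * a 0)) (x * (a 0 * a 1))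
    (x * (a 1 * a 1))).of_eq ?_
  ext i j
  fin_cases i <;> fin_cases j <;>
    simp only [vecMulVec_apply, Matrix.smul_apply, smul_eq_mul, Matrix.of_apply,
      Matrix.cons_val', Matrix.cons_val_zero, Matrix.cons_val_one, Matrix.cons_val_fin_one,
      Fin.zero_eta, Fin.mk_one, Fin.isValue] <;> ring

end closure

section regular

theorem uE_val : (uE : SP).1 = fromBlocks (Jx 1) (R1 * (Jx (-1))ᵀ) 0 (Jx (-1))ᵀ := by
  unfold uE
  rw [Submonoid.coe_mul, sie_val, lev_val, fromBlocks_multiply]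
  simp

theorem uE_sub_one : (uE : SP).1 - 1
    = fromBlocks (!![0, 1; 0, 0] : M2) !![0, 0; -1, 1] 0 !![0, 0; -1, 0] := by
  rw [uE_val, ← fromBlocks_one, ← sub_eq_zero]
  ext (i | i) (j | j) <;> fin_cases i <;> fin_cases j <;>
    simp [Jx, R1, Matrix.mul_apply, Fin.sum_univ_two, Matrix.transpose_apply, Matrix.one_apply,
      -Matrix.cons_mul]

theorem uE_pow_two : ((uE : SP).1 - 1) ^ 2
    = fromBlocks (0 : M2) !![-1, 1; -1, 0] 0 0 := by
  rw [uE_sub_one, pow_two, fromBlocks_multiply]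
  congr 1 <;>
  · ext i j
    fin_cases i <;> fin_cases j <;>
      simp [Matrix.mul_apply, Fin.sum_univ_two, -Matrix.cons_mul]

theorem uE_pow_three : ((uE : SP).1 - 1) ^ 3
    = fromBlocks (0 : M2) !![-1, 0; 0, 0] 0 0 := by
  rw [pow_succ, uE_pow_two, uE_sub_one, fromBlocks_multiply]
  congr 1 <;>
  · ext i j
    fin_cases i <;> fin_cases j <;>
      simp [Matrix.mul_apply, Fin.sum_univ_two, -Matrix.cons_mul]

theorem uE_pow_four : ((uE : SP).1 - 1) ^ 4 = 0 := by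
  rw [pow_succ, uE_pow_three, uE_sub_one, fromBlocks_multiply, ← fromBlocks_zero]
  congr 1 <;>
  · ext i j
    fin_cases i <;> fin_cases j <;>
      simp [Matrix.mul_apply, Fin.sum_univ_two, -Matrix.cons_mul]

theorem uE_isNilpotent : IsNilpotent ((uE : SP).1 - 1) := ⟨4, uE_pow_four⟩

theorem uE_pow_three_ne : ((uE : SP).1 - 1) ^ 3 ≠ 0 := by
  rw [uE_pow_three]
  intro h
  have := congrFun (congrFun h (Sum.inl 0)) (Sum.inr 0)
  simp at this

end regular

section action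

theorem VE_inv_val (c t : F) : ((VE c t : SP)⁻¹).1
    = fromBlocks (Lc (-c)) 0 (-((Lc (-c))ᵀ * (t • R1))ᵀ) (Lc c)ᵀ := by
  rw [inv_val]
  unfold VE
  simp only [gA_mul, gB_mul, gC_mul, gD_mul, gA_sieN, gB_sieN, gC_sieN, gD_sieN, gA_lev, gB_lev,
    gC_lev, gD_lev, Matrix.mul_one, Matrix.one_mul, Matrix.mul_zero, Matrix.zero_mul, add_zero,
    zero_add, transpose_zero, neg_zero, transpose_transpose]

theorem VE_inv_act1 (c t : F) :
    ((VE c t : SP)⁻¹).1 *ᵥ vl (Pi.single (Fin.last 1) 1)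
      = vl (Pi.single (Fin.last 1) 1) + (-t) • vr (Pi.single (Fin.last 1) 1) := by
  rw [VE_inv_val]
  unfold vl vr
  rw [fromBlocks_mulVec]
  ext (i | i) <;> fin_cases i <;>
    simp [Lc, R1, Matrix.mulVec, dotProduct, Fin.sum_univ_two, Matrix.mul_apply,
      Matrix.transpose_apply, Pi.single_apply, -Matrix.cons_mul]

theorem VE_inv_act2 (c t : F) (i : Fin 1) :
    ((VE c t : SP)⁻¹).1 *ᵥ vr (Pi.single i.succ 1)
      = vr (Pi.single i.succ 1) + c • vr (Pi.single i.castSucc 1) := by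
  rw [VE_inv_val]
  unfold vr
  rw [fromBlocks_mulVec]
  fin_cases i
  ext (i | i) <;> fin_cases i <;>
    simp [Lc, R1, Matrix.mulVec, dotProduct, Fin.sum_univ_two, Matrix.mul_apply,
      Matrix.transpose_apply, Pi.single_apply, -Matrix.cons_mul]

end action

section final

variable [Fintype F] [CharP F 2]

/-- `Sp₄(F)`, `F` of characteristic two with at least four elements, is generated by three
conjugate regular unipotent elements. -/
theorem sp4_even (hF : 4 ≤ Fintype.card F) :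
    ∃ u g h : SpG 2 F, IsNilpotent ((u : Matrix (Fin 2 ⊕ Fin 2) (Fin 2 ⊕ Fin 2) F) - 1) ∧
      ((u : Matrix (Fin 2 ⊕ Fin 2) (Fin 2 ⊕ Fin 2) F) - 1) ^ 3 ≠ 0 ∧
      Subgroup.closure ({u, g * u * g⁻¹, h * u * h⁻¹} : Set (SpG 2 F)) = ⊤ := by
  classical
  have h2 : (2 : F) = 0 := CharTwo.two_eq_zero
  -- a generator of the multiplicative group
  obtain ⟨ζ', hζ'⟩ : ∃ ζ : Fˣ, ∀ y : Fˣ, y ∈ Submonoid.powers ζ :=
    IsCyclic.exists_monoid_generator
  set ζ : F := (ζ' : F) with hζdef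
  have hζ0 : ζ ≠ 0 := ζ'.ne_zero
  have hgen : ∀ x : F, x ≠ 0 → ∃ k : ℕ, x = ζ ^ k := by
    intro x hx
    obtain ⟨k, hk⟩ := (Submonoid.mem_powers_iff _ _).mp (hζ' (Units.mk0 x hx))
    refine ⟨k, ?_⟩
    have := congrArg Units.val hk
    simpa using this.symm
  obtain ⟨l, hl0, hl1⟩ := Cfsg.Agent.H9.SpF.exists_ne_zero_one (K := F) (by omega)
  have hζ1 : ζ ≠ 1 := by
    intro h
    obtain ⟨k, hk⟩ := hgen l hl0
    rw [h, one_pow] at hk
    exact hl1 hk
  -- square roots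
  have hsq : ∀ x : F, ∃ y : F, y * y = x := by
    intro x
    obtain ⟨y, hy⟩ := FiniteField.isSquare_of_char_two (CharP.ringChar_of_prime_eq_zero
      Nat.prime_two h2) x
    exact ⟨y, hy.symm⟩
  -- the parameters
  set s : F := l - l ^ 2 with hs
  have hs0 : s ≠ 0 := by
    rw [hs]
    have : l - l ^ 2 = l * (1 - l) := by ring
    rw [this]
    exact mul_ne_zero hl0 (sub_ne_zero.mpr (Ne.symm hl1))
  set t : F := ζ⁻¹ / s with ht
  have ht0 : t ≠ 0 := div_ne_zero (inv_ne_zero hζ0) hs0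
  obtain ⟨r, hr⟩ := hsq ζ
  have hr0 : r ≠ 0 := by
    intro h
    rw [h, mul_zero] at hr
    exact hζ0 hr.symm
  obtain ⟨c, hc⟩ := hsq (r / t)
  have hc0 : c ≠ 0 := by
    intro h
    rw [h, mul_zero] at hc
    exact div_ne_zero hr0 ht0 hc.symm
  obtain ⟨b, hb⟩ := hsq t⁻¹
  have hb0 : b ≠ 0 := by
    intro h
    rw [h, mul_zero] at hb
    exact inv_ne_zero ht0 hb.symm
  have ha0 : b / c ≠ 0 := div_ne_zero hb0 hc0
  have htc : t * c ^ 2 = r := by
    rw [pow_two, hc, mul_div_cancel₀ _ ht0]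
  have hμ : (s * t) * (t * c ^ 2) * (t * c ^ 2) = 1 := by
    rw [htc, mul_assoc, hr, ht, mul_div_cancel₀ _ hs0, inv_mul_cancel₀ hζ0]
  have hζr : (t * c ^ 2) * (t * c ^ 2) = ζ := by rw [htc, hr]
  have hca : b / (b / c) = c := by field_simp
  have htb : (b ^ 2)⁻¹ = t := by rw [pow_two, hb, inv_inv]
  refine ⟨uE, gE l, hE (b / c) b ha0 hb0, uE_isNilpotent, uE_pow_three_ne, ?_⟩
  set H : Subgroup (SpG 2 F) := Subgroup.closure
    ({uE, gE l * uE * (gE l)⁻¹, hE (b / c) b ha0 hb0 * uE * (hE (b / c) b ha0 hb0)⁻¹} :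
      Set (SpG 2 F)) with hH
  have huH : (uE : SP) ∈ H := Subgroup.subset_closure (by simp)
  have hgH : gE l * uE * (gE l)⁻¹ ∈ H := Subgroup.subset_closure (by simp)
  have hhH : hE (b / c) b ha0 hb0 * uE * (hE (b / c) b ha0 hb0)⁻¹ ∈ H :=
    Subgroup.subset_closure (by simp)
  have hVH : VE c t ∈ H := by
    have h1 := hE_conj (b / c) b ha0 hb0
    rw [hca, htb] at h1
    have h3 : VE c t = (hE (b / c) b ha0 hb0 * uE * (hE (b / c) b ha0 hb0)⁻¹)⁻¹ := by
      rw [_root_.mul_inv_rev, _root_.mul_inv_rev, inv_inv, ← mul_assoc, h1, mul_inv_cancel_right]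
    rw [h3]
    exact H.inv_mem hhH
  have hzH : InS H (s • P01 : M2) := by
    refine ⟨P01_symm.smul _, ?_⟩
    rw [← seed_eq l]
    exact H.mul_mem hgH (H.inv_mem huH)
  have hrank := step_rank_one huH hVH hzH hμ ζ hζr hgen hζ0 hζ1
  exact eq_top_of_siegel (k := 1) H (sympT_vl_mem hrank) (VE c t)⁻¹ (H.inv_mem hVH) (-t)
    (neg_ne_zero.mpr ht0) (VE_inv_act1 c t) (fun _ => c) (fun _ => hc0) (VE_inv_act2 c t)

end final

end Cfsg.Agent.SpRU.Sp4
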