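import Mathlib
import Cfsg.Agent.Lib.Helper7.SpRegC

/-!
# Regularity of the unipotent element `uReg n F` of `Sp₂ₙ(F)` (lead, for S2281)

`uReg n F - 1 = [N Y; 0 M]` with `N = J - 1`, `M = (J⁻¹)ᵀ - 1`, `Y = S₀ (J⁻¹)ᵀ`.  Both diagonal
blocks have vanishing `n`-th power, so `(u - 1)^(2n) = 0`, and the top right block of
`(u - 1)^(2n-1)` is `N^(n-1) Y M^(n-1) = ± E₀₀ ≠ 0`.
-/

set_option autoImplicit false

namespace Cfsg.Agent.SpRU

open Matrix Cfsg.Agent.H9.SpA Cfsg.Agent.Lib.Helper7.RegUnip Cfsg.Agent.Lib.Helper7.SpReg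

variable {n : ℕ} {F : Type*} [Field F]

/-! ### Powers of block upper triangular matrices -/

theorem fromBlocks_pow_exists (A B D : Matrix (Fin n) (Fin n) F) (k : ℕ) :
    ∃ X : Matrix (Fin n) (Fin n) F, (fromBlocks A B 0 D) ^ k = fromBlocks (A ^ k) X 0 (D ^ k) := by
  induction k with
  | zero => exact ⟨0, by rw [pow_zero, pow_zero, pow_zero, fromBlocks_one]⟩
  | succ k ih =>
    obtain ⟨X, hX⟩ := ih
    refine ⟨A ^ k * B + X * D, ?_⟩
    rw [pow_succ, hX, fromBlocks_multiply]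
    simp [pow_succ]

theorem fromBlocks_nilpotent (A B D : Matrix (Fin n) (Fin n) F) (k : ℕ) (hA : A ^ k = 0)
    (hD : D ^ k = 0) : (fromBlocks A B 0 D) ^ (k + k) = 0 := by
  obtain ⟨X, hX⟩ := fromBlocks_pow_exists A B D k
  rw [pow_add, hX, hA, hD, fromBlocks_multiply]
  simp

theorem fromBlocks_pow_top (A B D : Matrix (Fin n) (Fin n) F) (k : ℕ) (hA : A ^ (k + 1) = 0)
    (hD : D ^ (k + 1) = 0) :
    (fromBlocks A B 0 D) ^ (k + 1 + k) = fromBlocks 0 (A ^ k * B * D ^ k) 0 0 := by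
  obtain ⟨X, hX⟩ := fromBlocks_pow_exists A B D k
  rw [pow_add, pow_succ, hX, fromBlocks_multiply, fromBlocks_multiply]
  simp only [Matrix.mul_zero, Matrix.zero_mul, add_zero, zero_add]
  rw [← pow_succ, ← pow_succ, hA, hD]
  simp only [Matrix.zero_mul, zero_add]
  rw [Matrix.add_mul, Matrix.mul_assoc X D, ← pow_succ', hD, Matrix.mul_zero, add_zero]

/-! ### The blocks of `uReg - 1` -/

theorem uReg_val_sub_one : (uReg n F).1 - 1 =
    fromBlocks ((Jm : Matrix (Fin n) (Fin n) F) - 1) (Rm (ev (n - 1)) * (Jm⁻¹)ᵀ) 0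
      ((Jm⁻¹ - 1 : Matrix (Fin n) (Fin n) F)ᵀ) := by
  rw [uReg_eq]
  change (sie _ _).1 * (lev _ _ _).1 - 1 = _
  rw [sie_val, lev_val, fromBlocks_multiply, ← fromBlocks_one, sub_eq_add_neg, fromBlocks_neg,
    fromBlocks_add]
  simp [sub_eq_add_neg]

theorem Nk_pow_self : ((Jm : Matrix (Fin n) (Fin n) F) - 1) ^ n = 0 := by
  rw [Jm_sub_one, Nk_one_pow]
  ext i j
  simp only [Nk, Matrix.of_apply, Matrix.zero_apply]
  rw [if_neg (by have := j.2; omega)]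

theorem inv_Jm_mul : (Jm⁻¹ : Matrix (Fin n) (Fin n) F) * Jm = 1 :=
  Matrix.nonsing_inv_mul Jm (by rw [det_Jm]; exact isUnit_one)

theorem commute_inv_N : Commute (Jm⁻¹ : Matrix (Fin n) (Fin n) F) (Jm - 1) := by
  have h1 : Commute (Jm : Matrix (Fin n) (Fin n) F) (Jm - 1) :=
    (Commute.refl _).sub_right (Commute.one_right _)
  -- J⁻¹ N = J⁻¹ N J J⁻¹ = J⁻¹ J N J⁻¹ = N J⁻¹
  unfold Commute SemiconjBy
  calc (Jm⁻¹ : Matrix (Fin n) (Fin n) F) * (Jm - 1)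
      = Jm⁻¹ * ((Jm - 1) * Jm) * Jm⁻¹ := by
        rw [Matrix.mul_assoc, Matrix.mul_assoc, Jm_mul_inv, Matrix.mul_one]
    _ = Jm⁻¹ * (Jm * (Jm - 1)) * Jm⁻¹ := by rw [h1.eq]
    _ = (Jm - 1) * Jm⁻¹ := by
        rw [← Matrix.mul_assoc, inv_Jm_mul, Matrix.one_mul]

theorem inv_sub_one : (Jm⁻¹ - 1 : Matrix (Fin n) (Fin n) F) = -(Jm⁻¹ * (Jm - 1)) := by
  rw [Matrix.mul_sub, inv_Jm_mul, Matrix.mul_one]
  abel

theorem inv_sub_one_pow (k : ℕ) : (Jm⁻¹ - 1 : Matrix (Fin n) (Fin n) F) ^ k =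
    (-1) ^ k • ((Jm⁻¹) ^ k * (Jm - 1) ^ k) := by
  rw [inv_sub_one, neg_pow, commute_inv_N.mul_pow]
  rcases Nat.even_or_odd k with hk | hk
  · rw [hk.neg_one_pow, hk.neg_one_pow, one_mul, one_smul]
  · rw [hk.neg_one_pow, hk.neg_one_pow, neg_one_mul, neg_one_smul]

theorem inv_mul_N_pow_last (hn : 1 ≤ n) :
    (Jm⁻¹ : Matrix (Fin n) (Fin n) F) * (Jm - 1) ^ (n - 1) = (Jm - 1) ^ (n - 1) := by
  have h1 : (Jm : Matrix (Fin n) (Fin n) F) * (Jm - 1) ^ (n - 1) = (Jm - 1) ^ (n - 1) := by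
    have : (Jm : Matrix (Fin n) (Fin n) F) = 1 + (Jm - 1) := by abel
    nth_rewrite 1 [this]
    rw [Matrix.add_mul, Matrix.one_mul, ← pow_succ', Nat.sub_add_cancel hn, Nk_pow_self, add_zero]
  calc (Jm⁻¹ : Matrix (Fin n) (Fin n) F) * (Jm - 1) ^ (n - 1)
      = Jm⁻¹ * (Jm * (Jm - 1) ^ (n - 1)) := by rw [h1]
    _ = (Jm - 1) ^ (n - 1) := by rw [← Matrix.mul_assoc, inv_Jm_mul, Matrix.one_mul]

theorem inv_pow_mul_N_pow_last (hn : 1 ≤ n) (k : ℕ) :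
    (Jm⁻¹ : Matrix (Fin n) (Fin n) F) ^ k * (Jm - 1) ^ (n - 1) = (Jm - 1) ^ (n - 1) := by
  induction k with
  | zero => rw [pow_zero, Matrix.one_mul]
  | succ k ih => rw [pow_succ, Matrix.mul_assoc, inv_mul_N_pow_last hn, ih]

theorem N_pow_last_mulVec (hn : 1 ≤ n) :
    ((Jm : Matrix (Fin n) (Fin n) F) - 1) ^ (n - 1) *ᵥ ev (n - 1) = ev 0 := by
  rw [Jm_sub_one, Nk_one_pow, mulVec_ev _ (n - 1) (by omega)]
  ext i
  simp only [Matrix.col_apply, Nk, Matrix.of_apply, ev_apply]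
  by_cases h : i.val = 0
  · rw [if_pos h, if_pos (by rw [h]; simp)]
  · rw [if_neg h, if_neg (by have := i.2; simp; omega)]

/-- the top right block of `(u - 1)^(2n-1)` -/
theorem top_block (hn : 1 ≤ n) :
    ((Jm : Matrix (Fin n) (Fin n) F) - 1) ^ (n - 1) * (Rm (ev (n - 1)) * (Jm⁻¹)ᵀ) *
      ((Jm⁻¹ - 1 : Matrix (Fin n) (Fin n) F)ᵀ) ^ (n - 1) = (-1) ^ (n - 1) • Rm (ev 0) := by
  rw [← Matrix.transpose_pow, inv_sub_one_pow, inv_pow_mul_N_pow_last hn, Matrix.transpose_smul,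
    Matrix.mul_smul]
  congr 1
  have hc : (Jm⁻¹ : Matrix (Fin n) (Fin n) F) * (Jm - 1) ^ (n - 1) = (Jm - 1) ^ (n - 1) * Jm⁻¹ :=
    (commute_inv_N.pow_right (n - 1)).eq
  rw [Matrix.mul_assoc, Matrix.mul_assoc, ← Matrix.transpose_mul,
    ← hc, inv_mul_N_pow_last hn, ← Matrix.mul_assoc, conj_Rm,
    N_pow_last_mulVec hn]

theorem Rm_ev_zero_ne_zero (hn : 1 ≤ n) : (Rm (ev 0 : Fin n → F)) ≠ 0 := by
  intro h
  have := congrFun (congrFun h ⟨0, by omega⟩) ⟨0, by omega⟩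
  simp [Rm, vecMulVec_apply, ev_apply] at this

theorem uReg_nilpotent : IsNilpotent ((uReg n F).1 - 1) := by
  refine ⟨n + n, ?_⟩
  rw [uReg_val_sub_one]
  apply fromBlocks_nilpotent _ _ _ n Nk_pow_self
  rw [← Matrix.transpose_pow, inv_sub_one_pow, Nk_pow_self, Matrix.mul_zero, smul_zero,
    Matrix.transpose_zero]

theorem uReg_pow_ne_zero (hn : 1 ≤ n) : ((uReg n F).1 - 1) ^ (2 * n - 1) ≠ 0 := by
  obtain ⟨k, rfl⟩ : ∃ k, n = k + 1 := ⟨n - 1, by omega⟩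
  have hexp : 2 * (k + 1) - 1 = k + 1 + k := by omega
  rw [hexp, uReg_val_sub_one, fromBlocks_pow_top _ _ _ k Nk_pow_self]
  · intro h
    have h2 := congrArg Matrix.toBlocks₁₂ h
    rw [toBlocks_fromBlocks₁₂] at h2
    have h0 : (Matrix.toBlocks₁₂ (0 : Matrix (Fin (k + 1) ⊕ Fin (k + 1))
      (Fin (k + 1) ⊕ Fin (k + 1)) F)) = 0 := rfl
    rw [h0] at h2
    have h3 := top_block (n := k + 1) (F := F) (by omega)
    simp only [Nat.add_sub_cancel] at h3 h2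
    rw [h3] at h2
    have h4 : (Rm (ev 0 : Fin (k + 1) → F)) = 0 := by
      rcases Nat.even_or_odd k with hk | hk
      · rw [hk.neg_one_pow, one_smul] at h2
        exact h2
      · rw [hk.neg_one_pow, neg_one_smul, neg_eq_zero] at h2
        exact h2
    exact Rm_ev_zero_ne_zero (by omega) h4
  · rw [← Matrix.transpose_pow, inv_sub_one_pow, Nk_pow_self, Matrix.mul_zero, smul_zero,
      Matrix.transpose_zero]

end Cfsg.Agent.SpRU
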