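import Cfsg.Agent.S0765
import Cfsg.Agent.Lib.Helper5.Symp

/-!
# A generation criterion for `Sp₂ₙ(F)`

If a subgroup `H` of the symplectic group contains all symplectic transvections with centre in the
standard Lagrangian `E = F^n ⊕ 0`, and one element `y` moving the last basis vector of `E` off `E` and
acting on the basis of the complementary Lagrangian by a lower Jordan block pattern, then `H = ⊤`.
-/

set_option autoImplicit false

namespace Cfsg.Agent.SpRU

open Matrix Cfsg Cfsg.Agent.Lib.Helper5.Symp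

variable {F : Type*} [Field F] {n : ℕ}

/-- vector supported on the first summand -/
def vl (a : Fin n → F) : Fin n ⊕ Fin n → F := Sum.elim a 0

/-- vector supported on the second summand -/
def vr (b : Fin n → F) : Fin n ⊕ Fin n → F := Sum.elim 0 b

theorem vl_add (a a' : Fin n → F) : vl (a + a') = vl a + vl a' := by
  ext (i | i) <;> simp [vl]

theorem vr_add (b b' : Fin n → F) : vr (b + b') = vr b + vr b' := by
  ext (i | i) <;> simp [vr]

theorem vl_smul (c : F) (a : Fin n → F) : vl (c • a) = c • vl a := by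
  ext (i | i) <;> simp [vl]

theorem vr_smul (c : F) (b : Fin n → F) : vr (c • b) = c • vr b := by
  ext (i | i) <;> simp [vr]

theorem vl_zero : vl (0 : Fin n → F) = 0 := by
  ext (i | i) <;> simp [vl]

theorem vr_zero : vr (0 : Fin n → F) = 0 := by
  ext (i | i) <;> simp [vr]

theorem vl_sub (a a' : Fin n → F) : vl (a - a') = vl a - vl a' := by
  ext (i | i) <;> simp [vl]

theorem sympForm_vl_vl (a a' : Fin n → F) : sympForm n F (vl a) (vl a') = 0 := by
  rw [sympForm_eq_sum]
  simp [vl]

theorem sympForm_vr_vr (b b' : Fin n → F) : sympForm n F (vr b) (vr b') = 0 := by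
  rw [sympForm_eq_sum]
  simp [vr]

theorem sympForm_vl_vr (a b : Fin n → F) : sympForm n F (vl a) (vr b) = -(a ⬝ᵥ b) := by
  rw [sympForm_eq_sum]
  simp [vl, vr, dotProduct]

theorem sympForm_vr_vl (b a : Fin n → F) : sympForm n F (vr b) (vl a) = b ⬝ᵥ a := by
  rw [sympForm_eq_sum]
  simp [vl, vr, dotProduct]

/-- all transvections with centre `w` lie in `H` -/
def InW (H : Subgroup (symplecticGroup (Fin n) F)) (w : Fin n ⊕ Fin n → F) : Prop :=
  ∀ c : F, sympT n w c ∈ H

variable {H : Subgroup (symplecticGroup (Fin n) F)}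

theorem InW.zero : InW H (0 : Fin n ⊕ Fin n → F) := by
  intro c
  have : sympT n (0 : Fin n ⊕ Fin n → F) c = 1 := by
    apply Subtype.ext
    change sympTransvection n 0 c = 1
    unfold sympTransvection
    simp
  rw [this]
  exact H.one_mem

theorem InW.act {g : symplecticGroup (Fin n) F} (hg : g ∈ H) {w : Fin n ⊕ Fin n → F}
    (hw : InW H w) : InW H (g.1 *ᵥ w) := by
  intro c
  have : sympT n (g.1 *ᵥ w) c = g * sympT n w c * g⁻¹ := by
    apply Subtype.ext
    change sympTransvection n (g.1 *ᵥ w) c = g.1 * sympTransvection n w c * (g⁻¹).1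
    rw [SymplecticGroup.coe_inv', conj_sympTransvection n g.2]
  rw [this]
  exact H.mul_mem (H.mul_mem hg (hw c)) (H.inv_mem hg)

theorem InW.act' {g : symplecticGroup (Fin n) F} (hg : g ∈ H) {w w' : Fin n ⊕ Fin n → F}
    (hw : InW H w) (h : g.1 *ᵥ w' = w) : InW H w' := by
  have h1 := InW.act (H.inv_mem hg) hw
  have h2 : (g⁻¹).1 *ᵥ w = w' := by
    rw [← h, mulVec_mulVec, ← Submonoid.coe_mul, inv_mul_cancel, Submonoid.coe_one, one_mulVec]
  rwa [h2] at h1

theorem InW.smul {w : Fin n ⊕ Fin n → F} (hw : InW H w) (a : F) : InW H (a • w) := by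
  intro c
  have : sympT n (a • w) c = sympT n w (a ^ 2 * c) := by
    apply Subtype.ext
    exact sympTransvection_smul n a w c
  rw [this]
  exact hw _

theorem InW.add_of_ne {w w' : Fin n ⊕ Fin n → F} (hw : InW H w) (hw' : InW H w')
    (h : sympForm n F w w' ≠ 0) (l : F) : InW H (w + l • w') := by
  have h1 := InW.act (hw' (l / sympForm n F w w')) hw
  have h2 : (sympT n w' (l / sympForm n F w w')).1 *ᵥ w = w + l • w' := by
    change sympTransvection n w' (l / sympForm n F w w') *ᵥ w = _
    rw [sympTransvection_mulVec, div_mul_cancel₀ _ h]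
  rwa [h2] at h1

/-- if one vector `vl a₀ + vr f` lies in `W` then all of `vl a + vr f` do
(given `W ⊇ E`). -/
theorem InW.spread (hE : ∀ a : Fin n → F, InW H (vl a)) {a₀ f : Fin n → F}
    (h : InW H (vl a₀ + vr f)) (a : Fin n → F) : InW H (vl a + vr f) := by
  by_cases hf : f = 0
  · rw [hf, vr_zero, add_zero]
    exact hE a
  obtain ⟨i, hi⟩ : ∃ i, f i ≠ 0 := by
    by_contra hcon
    push Not at hcon
    exact hf (funext hcon)
  -- the form of `vl a₀' + vr f` with `vl b`
  have hform : ∀ a' b : Fin n → F, sympForm n F (vl a' + vr f) (vl b) = f ⬝ᵥ b := by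
    intro a' b
    rw [sympForm_add_left, sympForm_vl_vl, sympForm_vr_vl, zero_add]
  set b : Fin n → F := a - a₀ with hb
  have hab : vl a + vr f = (vl a₀ + vr f) + (1 : F) • vl b := by
    rw [one_smul, hb, vl_sub]
    abel
  by_cases h0 : f ⬝ᵥ b = 0
  · -- two steps
    set b' : Fin n → F := Pi.single i 1 with hb'
    have h1 : f ⬝ᵥ b' ≠ 0 := by
      rw [hb', dotProduct_single, mul_one]
      exact hi
    have hstep1 : InW H (vl (a₀ + b') + vr f) := by
      have := InW.add_of_ne h (hE b') (by rw [hform]; exact h1) 1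
      rw [one_smul] at this
      have e : vl (a₀ + b') + vr f = vl a₀ + vr f + vl b' := by
        rw [vl_add]; abel
      rw [e]
      exact this
    have h2 : f ⬝ᵥ (b - b') ≠ 0 := by
      rw [dotProduct_sub, h0, zero_sub]
      exact neg_ne_zero.mpr h1
    have := InW.add_of_ne hstep1 (hE (b - b')) (by rw [hform]; exact h2) 1
    rw [one_smul] at this
    have e : vl a + vr f = vl (a₀ + b') + vr f + vl (b - b') := by
      rw [vl_add, vl_sub, hb, vl_sub]; abel
    rw [e]
    exact this
  · rw [hab]
    exact InW.add_of_ne h (hE b) (by rw [hform]; exact h0) 1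

/-- the set of `f` with `E + f ⊆ W` -/
def InF (H : Subgroup (symplecticGroup (Fin n) F)) (f : Fin n → F) : Prop :=
  ∀ a : Fin n → F, InW H (vl a + vr f)

theorem InF.of_one (hE : ∀ a : Fin n → F, InW H (vl a)) {a₀ f : Fin n → F}
    (h : InW H (vl a₀ + vr f)) : InF H f := fun a => InW.spread hE h a

theorem InF.smul (hE : ∀ a : Fin n → F, InW H (vl a)) {f : Fin n → F} (hf : InF H f) (c : F) :
    InF H (c • f) := by
  have := (hf 0).smul c
  rw [smul_add, ← vl_smul, ← vr_smul] at this
  exact InF.of_one hE this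

theorem InF.add (hE : ∀ a : Fin n → F, InW H (vl a)) {f f' : Fin n → F} (hf : InF H f)
    (hf' : InF H f') : InF H (f + f') := by
  by_cases h0 : f' = 0
  · rw [h0, add_zero]; exact hf
  obtain ⟨i, hi⟩ : ∃ i, f' i ≠ 0 := by
    by_contra hcon
    push Not at hcon
    exact h0 (funext hcon)
  set a : Fin n → F := Pi.single i 1 with ha
  have h1 : sympForm n F (vl a + vr f) (vl 0 + vr f') ≠ 0 := by
    rw [vl_zero, zero_add, sympForm_add_left, sympForm_vl_vr, sympForm_vr_vr, add_zero, ha,
      single_dotProduct, one_mul]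
    exact neg_ne_zero.mpr hi
  have := InW.add_of_ne (hf a) (hf' 0) h1 1
  rw [one_smul, vl_zero, zero_add, add_assoc, ← vr_add] at this
  exact InF.of_one hE this

/-- The generation criterion. -/
theorem eq_top_of_siegel {k : ℕ} (H : Subgroup (symplecticGroup (Fin (k + 1)) F))
    (hE : ∀ (a : Fin (k + 1) → F) (c : F), sympT (k + 1) (vl a) c ∈ H)
    (y : symplecticGroup (Fin (k + 1)) F) (hy : y ∈ H) (τ : F) (hτ : τ ≠ 0)
    (hy1 : y.1 *ᵥ vl (Pi.single (Fin.last k) 1)
      = vl (Pi.single (Fin.last k) 1) + τ • vr (Pi.single (Fin.last k) 1))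
    (c : Fin k → F) (hc : ∀ i, c i ≠ 0)
    (hy2 : ∀ i : Fin k, y.1 *ᵥ vr (Pi.single i.succ 1)
      = vr (Pi.single i.succ 1) + c i • vr (Pi.single i.castSucc 1)) :
    H = ⊤ := by
  have hE' : ∀ a : Fin (k + 1) → F, InW H (vl a) := fun a c => hE a c
  -- the last basis vector
  have hlast : InF H (Pi.single (Fin.last k) (1 : F)) := by
    have h1 := InW.act hy (hE' (Pi.single (Fin.last k) 1))
    rw [hy1, ← vr_smul] at h1
    have h2 := InF.of_one hE' h1
    have h3 := h2.smul hE' τ⁻¹
    rwa [smul_smul, inv_mul_cancel₀ hτ, one_smul] at h3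
  -- all basis vectors
  have hbasis : ∀ j : Fin (k + 1), InF H (Pi.single j (1 : F)) := by
    intro j
    induction j using Fin.reverseInduction with
    | last => exact hlast
    | cast i ih =>
      have h1 := InW.act hy (ih 0)
      rw [vl_zero, zero_add, hy2, ← vr_smul, ← vr_add] at h1
      have h1' : InW H (vl 0 + vr (Pi.single i.succ 1 + c i • Pi.single i.castSucc (1 : F))) := by
        rw [vl_zero, zero_add]; exact h1
      have h2 := InF.of_one hE' h1'
      have h3 := (h2.add hE' (ih.smul hE' (-1))).smul hE' (c i)⁻¹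
      have e : (c i)⁻¹ • (Pi.single i.succ 1 + c i • Pi.single i.castSucc (1 : F)
          + (-1 : F) • Pi.single i.succ 1) = Pi.single i.castSucc (1 : F) := by
        rw [neg_one_smul, add_right_comm, add_neg_cancel, zero_add, smul_smul,
          inv_mul_cancel₀ (hc i), one_smul]
      rwa [e] at h3
  -- all of `E'`
  have hall : ∀ f : Fin (k + 1) → F, InF H f := by
    intro f
    have hsum : f = ∑ j, f j • (Pi.single j (1 : F) : Fin (k + 1) → F) := by
      ext i
      simp [Finset.sum_apply, Pi.single_apply]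
    rw [hsum]
    apply Finset.sum_induction _ (InF H) (fun _ _ h1 h2 => h1.add hE' h2)
    · intro a
      rw [vr_zero, add_zero]
      exact hE' a
    · intro j _
      exact (hbasis j).smul hE' _
  -- all vectors
  have hW : ∀ w : Fin (k + 1) ⊕ Fin (k + 1) → F, InW H w := by
    intro w
    have : w = vl (fun i => w (.inl i)) + vr (fun i => w (.inr i)) := by
      ext (i | i) <;> simp [vl, vr]
    rw [this]
    exact hall _ _
  rw [eq_top_iff, ← Cfsg.Agent.S0765.result (F := F) (k + 1)]
  apply (Subgroup.closure_le H).mpr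
  rintro A ⟨w, c, hA⟩
  have : A = sympT (k + 1) w c := Subtype.ext hA
  rw [this]
  exact hW w c

end Cfsg.Agent.SpRU
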